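import Cfsg.Prelude.Def_AxialAlgebras

/-!
Elementary facts on one Majorana axis `a` and a second vector `x`: transport of Majorana pairs by
automorphisms, uniqueness of the Miyamoto map, the eigenvector decomposition of `x` with respect to
`a` and the fusion rules for its `0`- and `1/4`-parts.
-/

set_option autoImplicit false

namespace CfsgLib.Majorana

open Cfsg.Axial

variable {V : Type*} [AddCommGroup V] [Module ℝ V] {mul : V →ₗ[ℝ] V →ₗ[ℝ] V}
  {B : LinearMap.BilinForm ℝ V} {μ μ' : V ≃ₗ[ℝ] V} {a : V}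

theorem mem_eigen {b v : V} {c : ℝ} : v ∈ eigen mul b c ↔ mul b v = c • v :=
  Module.End.mem_eigenspace_iff

theorem eigen_le_eigenSum {b : V} {S : Set ℝ} {c : ℝ} (hc : c ∈ S) :
    eigen mul b c ≤ eigenSum mul b S :=
  le_iSup₂_of_le c hc le_rfl

theorem exists_decomp (h : IsMajoranaPair mul B μ a) (x : V) :
    ∃ (l : ℝ) (u v w : V), mul a u = 0 ∧ mul a v = (1 / 4 : ℝ) • v ∧ mul a w = (1 / 32 : ℝ) • w ∧
      x = l • a + u + v + w ∧ μ x = l • a + u + v - w := by
  obtain ⟨-, -, ⟨⟨-, hid, hdec, -⟩, hprim⟩, hfix, hneg⟩ := h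
  have hx : x ∈ eigenSum mul a majoranaSpectrum := by rw [hdec]; trivial
  rw [eigenSum, majoranaSpectrum, iSup_insert, iSup_insert, iSup_pair] at hx
  obtain ⟨f1, hf1, r1, hr1, e1⟩ := Submodule.mem_sup.mp hx
  obtain ⟨f0, hf0, r2, hr2, e2⟩ := Submodule.mem_sup.mp hr1
  obtain ⟨f4, hf4, f32, hf32, e3⟩ := Submodule.mem_sup.mp hr2
  have hin : ∀ c ∈ ({1, 0, 1 / 4} : Set ℝ), ∀ y ∈ eigen mul a c, μ y = y := fun c hc y hy =>
    hfix y (eigen_le_eigenSum hc hy)
  have k1 : μ f1 = f1 := hin 1 (by simp) f1 hf1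
  have k0 : μ f0 = f0 := hin 0 (by simp) f0 hf0
  have k4 : μ f4 = f4 := hin (1 / 4) (by simp) f4 hf4
  have k32 : μ f32 = -f32 := hneg f32 hf32
  rw [hprim, Submodule.mem_span_singleton] at hf1
  obtain ⟨l, rfl⟩ := hf1
  refine ⟨l, f0, f4, f32, ?_, mem_eigen.mp hf4, mem_eigen.mp hf32, ?_, ?_⟩
  · rw [mem_eigen.mp hf0, zero_smul]
  · rw [← e1, ← e2, ← e3]; module
  · rw [← e1, ← e2, ← e3, map_add, map_add, map_add, k1, k0, k4, k32]; module

theorem apply_self (h : IsMajoranaPair mul B μ a) : μ a = a :=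
  h.2.2.2.1 a (eigen_le_eigenSum (c := 1) (by simp) (mem_eigen.mpr (by rw [h.2.2.1.1.2.1, one_smul])))

theorem involutive (h : IsMajoranaPair mul B μ a) : μ * μ = 1 := by
  ext x
  obtain ⟨l, u, v, w, -, -, hw, hx, hμ⟩ := exists_decomp h x
  have k32 : μ w = -w := h.2.2.2.2 w (mem_eigen.mpr hw)
  have hμ' : μ x = x - (2 : ℝ) • w := by rw [hμ, hx]; module
  show μ (μ x) = x
  rw [hμ', map_sub, map_smul, k32, hμ']
  module

theorem miyamoto_unique (h : IsMajoranaPair mul B μ a) (h' : IsMajoranaPair mul B μ' a) : μ = μ' := by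
  ext x
  obtain ⟨l, u, v, w, hu, hv, hw, hx, hμ⟩ := exists_decomp h x
  have hin : ∀ c ∈ ({1, 0, 1 / 4} : Set ℝ), ∀ y, mul a y = c • y → μ' y = y := fun c hc y hy =>
    h'.2.2.2.1 y (eigen_le_eigenSum hc (mem_eigen.mpr hy))
  have k32 : μ' w = -w := h'.2.2.2.2 w (mem_eigen.mpr hw)
  rw [hμ]
  conv_rhs => rw [hx]
  rw [map_add, map_add, map_add, map_smul, apply_self h', hin 0 (by simp) u (by rw [hu, zero_smul]),
    hin (1 / 4) (by simp) v hv, k32]
  module

theorem pair_map (g : V ≃ₗ[ℝ] V) (hg : ∀ u v : V, g (mul u v) = mul (g u) (g v))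
    (hgB : ∀ u v : V, B (g u) (g v) = B u v) (h : IsMajoranaPair mul B μ a) :
    IsMajoranaPair mul B (g * μ * g⁻¹) (g a) := by
  obtain ⟨hm, hB, ⟨⟨ha, hid, hdec, hfus⟩, hprim⟩, hfix, hneg⟩ := h
  have hgi : ∀ y, g⁻¹ y = g.symm y := fun _ => rfl
  have hE : ∀ c, eigen mul (g a) c = (eigen mul a c).map (g : V →ₗ[ℝ] V) := by
    intro c
    ext y
    rw [Submodule.mem_map_equiv, mem_eigen, mem_eigen]
    constructor
    · intro hy
      apply g.injective
      rw [hg, map_smul, g.apply_symm_apply, hy]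
    · intro hy
      have hy' := congrArg g hy
      rwa [hg, map_smul, g.apply_symm_apply] at hy'
  have hES : ∀ S : Set ℝ, eigenSum mul (g a) S = (eigenSum mul a S).map (g : V →ₗ[ℝ] V) := by
    intro S
    simp only [eigenSum, Submodule.map_iSup, hE]
  have hsm : ∀ u v, g.symm (mul u v) = mul (g.symm u) (g.symm v) := by
    intro u v
    apply g.injective
    simp only [hg, g.apply_symm_apply]
  have hsB : ∀ u v, B (g.symm u) (g.symm v) = B u v := by
    intro u v
    rw [← hgB, g.apply_symm_apply, g.apply_symm_apply]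
  have hc : ∀ y, (g * μ * g⁻¹) y = g (μ (g.symm y)) := fun _ => rfl
  refine ⟨fun u v => by simp only [hc, hsm, hm, hg], fun u v => by simp only [hc, hgB, hB, hsB],
    ⟨⟨fun h0 => ha (g.injective (h0.trans (map_zero _).symm)), by rw [← hg, hid], ?_, ?_⟩, ?_⟩, ?_, ?_⟩
  · rw [hES, hdec, Submodule.map_top, LinearEquiv.range]
  · intro c hc' d hd u hu v hv
    rw [hE, Submodule.mem_map_equiv] at hu hv
    rw [hES, Submodule.mem_map_equiv, hsm]
    exact hfus c hc' d hd _ hu _ hv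
  · rw [hE, hprim, Submodule.map_span, Set.image_singleton]
    rfl
  · intro y hy
    rw [hES, Submodule.mem_map_equiv] at hy
    have := hfix _ hy
    simp only [LinearEquiv.coe_coe, hc] at this ⊢
    rw [this, g.apply_symm_apply]
  · intro y hy
    rw [hE, Submodule.mem_map_equiv] at hy
    have := hneg _ hy
    simp only [LinearEquiv.coe_coe, hc] at this ⊢
    rw [this, map_neg, g.apply_symm_apply]

theorem form_assoc (hamb : IsMajoranaAmbient mul B) (b p q : V) :
    B (mul b p) q = B p (mul b q) := by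
  obtain ⟨hcm, hBs, -, hassoc, -⟩ := hamb
  rw [← hassoc b p q, hBs p (mul b q), ← hassoc b q p, hcm p q]

theorem form_orth (hamb : IsMajoranaAmbient mul B) {p q : V} {c d : ℝ} (hp : mul a p = c • p)
    (hq : mul a q = d • q) (hcd : c ≠ d) : B p q = 0 := by
  have h := form_assoc hamb a p q
  rw [hp, hq, LinearMap.BilinForm.smul_left, map_smul, smul_eq_mul] at h
  have : (c - d) * B p q = 0 := by linarith
  exact (mul_eq_zero.mp this).resolve_left (sub_ne_zero.mpr hcd)

/-- All that is needed about an axis `a` with map `μ` and a vector `x` with `y = μ x`. -/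
theorem axis_facts (hamb : IsMajoranaAmbient mul B) (h : IsMajoranaPair mul B μ a) (hn : B a a = 1)
    (x σ v u : V) (l : ℝ) (hl : l = B a x) (hσ : σ = mul a x - (1 / 32 : ℝ) • (a + x))
    (hv : v = (4 : ℝ) • σ + (1 / 16 : ℝ) • (x + μ x) - (4 * l - 1 / 8) • a)
    (hu : u = (1 / 2 : ℝ) • (x + μ x) - l • a - v) :
    mul a (μ x) = σ + (1 / 32 : ℝ) • (a + μ x) ∧
    mul a σ = (31 / 32 * l - 1 / 32) • a + (7 / 128 : ℝ) • v ∧
    μ σ = σ ∧
    B a (μ x) = l ∧
    mul a (mul u u) = 0 ∧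
    mul a (mul u v) = (1 / 4 : ℝ) • mul u v ∧
    mul a (mul v v) = ((1 / 4) * B v x) • a := by
  obtain ⟨hcm, hBs, -, hassoc, -⟩ := id hamb
  obtain ⟨l', u', v', w, hu', hv', hw, hx, hμ⟩ := exists_decomp h x
  have hid : mul a a = a := h.2.2.1.1.2.1
  have ha1 : mul a a = (1 : ℝ) • a := by rw [hid, one_smul]
  have hu0 : mul a u' = (0 : ℝ) • u' := by rw [hu', zero_smul]
  have oau : B a u' = 0 := form_orth hamb ha1 hu0 (by norm_num)
  have oav : B a v' = 0 := form_orth hamb ha1 hv' (by norm_num)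
  have oaw : B a w = 0 := form_orth hamb ha1 hw (by norm_num)
  have hll : l' = l := by
    rw [hl, hx]
    simp only [map_add, map_smul, smul_eq_mul, hn, oau, oav, oaw]
    ring
  subst hll
  have hμx : B a (μ x) = l' := by
    rw [hμ]
    simp only [map_add, map_sub, map_smul, smul_eq_mul, hn, oau, oav, oaw]
    ring
  have hax : mul a x = l' • a + (1 / 4 : ℝ) • v' + (1 / 32 : ℝ) • w := by
    rw [hx]; simp only [map_add, map_smul, hid, hu', hv', hw]; module
  have haμ : mul a (μ x) = l' • a + (1 / 4 : ℝ) • v' - (1 / 32 : ℝ) • w := by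
    rw [hμ]; simp only [map_add, map_sub, map_smul, hid, hu', hv', hw]; module
  have hσ' : σ = (31 / 32 * l' - 1 / 32) • a + (7 / 32 : ℝ) • v' - (1 / 32 : ℝ) • u' := by
    rw [hσ, hax, hx]; module
  have hvv : v = v' := by rw [hv, hσ', hμ, hx]; module
  have huu : u = u' := by rw [hu, hvv, hμ, hx]; module
  subst hvv huu
  have mu : u ∈ eigen mul a (0 : ℝ) := mem_eigen.mpr hu0
  have mv : v ∈ eigen mul a (1 / 4 : ℝ) := mem_eigen.mpr hv'
  have hfix : ∀ c ∈ ({1, 0, 1 / 4} : Set ℝ), ∀ y, mul a y = c • y → μ y = y := fun c hc y hy =>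
    h.2.2.2.1 y (eigen_le_eigenSum hc (mem_eigen.mpr hy))
  have hfus := h.2.2.1.1.2.2.2
  have hz : (0 : ℝ) ∈ majoranaSpectrum := by simp [majoranaSpectrum]
  have hq : (1 / 4 : ℝ) ∈ majoranaSpectrum := by simp [majoranaSpectrum]
  refine ⟨?_, ?_, ?_, hμx, ?_, ?_, ?_⟩
  · rw [haμ, hσ', hμ]; module
  · rw [hσ']; simp only [map_add, map_sub, map_smul, hid, hu', hv']; module
  · rw [hσ', map_sub, map_add, map_smul, map_smul, map_smul, hfix 1 (by simp) a ha1,
      hfix 0 (by simp) u hu0, hfix (1 / 4) (by simp) v hv']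
  · have k := hfus _ hz _ hz u mu u mu
    rw [show monsterLaw (1 / 4 : ℝ) (1 / 32) 0 0 = {0} by norm_num [monsterLaw],
      eigenSum, iSup_singleton, mem_eigen, zero_smul] at k
    exact k
  · have k := hfus _ hz _ hq u mu v mv
    rw [show monsterLaw (1 / 4 : ℝ) (1 / 32) 0 (1 / 4) = {1 / 4} by norm_num [monsterLaw],
      eigenSum, iSup_singleton, mem_eigen] at k
    exact k
  · have k := hfus _ hq _ hq v mv v mv
    rw [show monsterLaw (1 / 4 : ℝ) (1 / 32) (1 / 4) (1 / 4) = {1, 0} by norm_num [monsterLaw],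
      eigenSum, iSup_pair] at k
    obtain ⟨f1, hf1, f0, hf0, e⟩ := Submodule.mem_sup.mp k
    rw [h.2.2.1.2, Submodule.mem_span_singleton] at hf1
    obtain ⟨t, rfl⟩ := hf1
    rw [mem_eigen] at hf0
    have ht : B a (mul v v) = t := by
      rw [← e, map_add, map_smul, smul_eq_mul, hn, form_orth hamb ha1 hf0 (by norm_num)]
      ring
    rw [hassoc a v v, hv', LinearMap.BilinForm.smul_left] at ht
    have hvx : B v x = B v v := by
      rw [hx, map_add, map_add, map_add, map_smul, smul_eq_mul, hBs v a, oav,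
        form_orth hamb hv' hu0 (by norm_num), form_orth hamb hv' hw (by norm_num)]
      ring
    rw [← e, map_add, map_smul, hid, hf0, zero_smul, add_zero, hvx, ht]

end CfsgLib.Majorana
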