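import Mathlib

/-!
The computation behind Sakuma's theorem at one axis `a` with neighbours `p, m` (distance 1) and
`p2, m2` (distance 2): the product `a So`, the square of `σ`, and equality of the two inner products
at distance two.
-/

set_option autoImplicit false

namespace CfsgLib.Majorana

variable {V : Type*} [AddCommGroup V] [Module ℝ V]

theorem key (mul : V →ₗ[ℝ] V →ₗ[ℝ] V) (hcm : ∀ u v, mul u v = mul v u)
    (a p m p2 m2 σ Se So u v : V) (L M N : ℝ) (ha : a ≠ 0)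
    (hv : v = (4 : ℝ) • σ + (1 / 16 : ℝ) • (p + m) - (4 * L - 1 / 8) • a)
    (hu : u = (1 / 2 : ℝ) • (p + m) - L • a - v)
    (h00 : mul a a = a) (hpp : mul p p = p) (hmm : mul m m = m)
    (hap : mul a p = σ + (1 / 32 : ℝ) • (a + p)) (ham : mul a m = σ + (1 / 32 : ℝ) • (a + m))
    (hpm : mul p m = So + (1 / 32 : ℝ) • (p + m))
    (hap2 : mul a p2 = Se + (1 / 32 : ℝ) • (a + p2)) (ham2 : mul a m2 = Se + (1 / 32 : ℝ) • (a + m2))
    (haσ : mul a σ = (31 / 32 * L - 1 / 32) • a + (7 / 128 : ℝ) • v)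
    (haSe : mul a Se = (31 / 32 * M - 1 / 32) • a + (7 / 128 : ℝ) •
      ((4 : ℝ) • Se + (1 / 16 : ℝ) • (p2 + m2) - (4 * M - 1 / 8) • a))
    (hpσ : mul p σ = (31 / 32 * L - 1 / 32) • p + (7 / 128 : ℝ) •
      ((4 : ℝ) • σ + (1 / 16 : ℝ) • (a + p2) - (4 * L - 1 / 8) • p))
    (hmσ : mul m σ = (31 / 32 * L - 1 / 32) • m + (7 / 128 : ℝ) •
      ((4 : ℝ) • σ + (1 / 16 : ℝ) • (a + m2) - (4 * L - 1 / 8) • m))
    (huu : mul a (mul u u) = 0) (huv : mul a (mul u v) = (1 / 4 : ℝ) • mul u v)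
    (hvv : mul a (mul v v) = ((1 / 4) * (4 * (31 / 32 * L - 1 / 32) + (1 / 16) * (1 + N)
      - (4 * L - 1 / 8) * L)) • a) :
    mul a So = ((7 / 96) : ℝ) • Se + ((1 / 6) * L + (-19 / 3072) : ℝ) • m
        + ((7 / 6144) : ℝ) • m2
        + ((-32 / 3) * L ^ 2 + (5 / 3) * L + (-1 / 24) * N + (-127 / 3072) : ℝ) • a
        + ((1 / 6) * L + (-19 / 3072) : ℝ) • p + ((7 / 6144) : ℝ) • p2
        + ((32 / 3) * L + (-19 / 48) : ℝ) • σ ∧
    mul σ σ = ((-7 / 1536) : ℝ) • Se + ((7 / 2048) : ℝ) • So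
        + ((49 / 768) * L + (-245 / 196608) : ℝ) • m + ((49 / 196608) : ℝ) • m2
        + ((7 / 6) * L ^ 2 + (-7 / 384) * L + (7 / 1536) * N + (-7 / 98304) : ℝ) • a
        + ((49 / 768) * L + (-245 / 196608) : ℝ) • p + ((49 / 196608) : ℝ) • p2
        + ((-5 / 12) * L + (-13 / 1536) : ℝ) • σ ∧
    N = M := by
  subst hu hv
  have c1 := hcm p a
  have c2 := hcm m a
  have c3 := hcm m p
  have c4 := hcm σ a
  have c5 := hcm σ p
  have c6 := hcm σ m
  rw [hap] at c1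
  rw [ham] at c2
  rw [hpm] at c3
  rw [haσ] at c4
  rw [hpσ] at c5
  rw [hmσ] at c6
  simp only [map_add, map_sub, map_smul, LinearMap.add_apply, LinearMap.sub_apply,
    LinearMap.smul_apply, smul_add, smul_sub, h00, hpp, hmm, hap, ham, hpm, hap2, ham2, haσ, haSe,
    hpσ, hmσ, c1, c2, c3, c4, c5, c6] at huu huv hvv
  have hK : mul a So = ((7 / 96) : ℝ) • Se + ((1 / 6) * L + (-19 / 3072) : ℝ) • m
      + ((7 / 6144) : ℝ) • m2
      + ((-32 / 3) * L ^ 2 + (5 / 3) * L + (-1 / 24) * N + (-127 / 3072) : ℝ) • a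
      + ((1 / 6) * L + (-19 / 3072) : ℝ) • p + ((7 / 6144) : ℝ) • p2
      + ((32 / 3) * L + (-19 / 48) : ℝ) • σ := by
    linear_combination (norm := module) (8 / 3 : ℝ) • huu + (-8 / 3 : ℝ) • hvv
  have hU : mul σ σ = ((-7 / 1536) : ℝ) • Se + ((7 / 2048) : ℝ) • So
      + ((49 / 768) * L + (-245 / 196608) : ℝ) • m + ((49 / 196608) : ℝ) • m2
      + ((7 / 6) * L ^ 2 + (-7 / 384) * L + (7 / 1536) * N + (-7 / 98304) : ℝ) • a
      + ((49 / 768) * L + (-245 / 196608) : ℝ) • p + ((49 / 196608) : ℝ) • p2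
      + ((-5 / 12) * L + (-13 / 1536) : ℝ) • σ := by
    linear_combination (norm := module)
      (-1 / 24 : ℝ) • huu + (1 / 4 : ℝ) • huv + (7 / 24 : ℝ) • hvv
  refine ⟨hK, hU, ?_⟩
  have hW := congrArg (mul a) hU
  simp only [map_add, map_sub, map_smul, LinearMap.add_apply, LinearMap.sub_apply,
    LinearMap.smul_apply, smul_add, smul_sub, h00, hap, ham, hap2, ham2, haσ, haSe] at hW
  have hz : (7 / 2048 * (N - M) : ℝ) • a = 0 := by
    linear_combination (norm := module) (-1 / 96 : ℝ) • huu + (7 / 96 : ℝ) • hvv - hW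
  rcases smul_eq_zero.mp hz with h | h
  · linarith
  · exact absurd h ha

end CfsgLib.Majorana
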