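import Mathlib

/-!
The polynomial part of Sakuma's theorem: the two equations between `L = (a₀, a₁)` and
`M = (a₀, a₂)` have only the solutions of the nine dihedral Majorana algebras, and each of them
makes one of the first six inner products `(a₀, aₙ)` equal to one.
-/

set_option autoImplicit false

namespace CfsgLib.Majorana

theorem solutions {L M : ℝ}
    (h4 : ((786432 / 7) * L ^ 4 + (-872448 / 7) * L ^ 3 + (15360 / 7) * L ^ 2 * M + (69120 / 7) * L ^ 2 + (3336 / 7) * L * M + (-1800 / 7) * L + (48 / 7) * M ^ 2 + (-501 / 56) * M + (117 / 56)) = (0 : ℝ))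
    (h0 : ((-402653184 / 49) * L ^ 5 + (453771264 / 49) * L ^ 4 + (-19660800 / 49) * L ^ 3 * M + (-33103872 / 49) * L ^ 3 + (1195008 / 49) * L ^ 2 * M + (92160 / 7) * L ^ 2 + (-70656 / 49) * L * M ^ 2 + (-124392 / 49) * L * M + (216 / 7) * L + (-2088 / 49) * M ^ 2 + (8703 / 196) * M + (-351 / 196)) = (0 : ℝ)) :
    L = 1 ∨ M = 1 ∨ ((-32768 / 7) * L ^ 3 + (36864 / 7) * L ^ 2 + (-1920 / 7) * L * M + (-2169 / 7) * L + (-33 / 7) * M + (33 / 7)) = (1 : ℝ) ∨ ((8388608 / 7) * L ^ 4 + (-9601024 / 7) * L ^ 3 + 65536 * L ^ 2 * M + 110592 * L ^ 2 + (-640 / 7) * L * M + (-19840 / 7) * L + (-128 / 7) * M ^ 2 + (-3) * M + (156 / 7)) = (1 : ℝ) ∨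
      ((-13958643712 / 49) * L ^ 5 + (16273899520 / 49) * L ^ 4 + (-754974720 / 49) * L ^ 3 * M + (-1633419264 / 49) * L ^ 3 + (12582912 / 49) * L ^ 2 * M + (8683520 / 7) * L ^ 2 + (475136 / 49) * L * M ^ 2 + (259584 / 49) * L * M + (-137721 / 7) * L + (-256 / 49) * M ^ 2 + (-5256 / 49) * M + (5512 / 49)) = (1 : ℝ) ∨ ((3298534883328 / 49) * L ^ 6 + (-3917010173952 / 49) * L ^ 5 + (177167400960 / 49) * L ^ 4 * M + (469317451776 / 49) * L ^ 4 + (-5511315456 / 49) * L ^ 3 * M + (-22767894528 / 49) * L ^ 3 + (-25165824 / 7) * L ^ 2 * M ^ 2 + (-97910784 / 49) * L ^ 2 * M + (542429184 / 49) * L ^ 2 + (2457600 / 49) * L * M ^ 2 + (5162880 / 49) * L * M + (-904320 / 7) * L + (16384 / 49) * M ^ 3 + (1152 / 49) * M ^ 2 + (-46500 / 49) * M + (29013 / 49)) = (1 : ℝ) := by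
  have hl : ((2949120 / 49) * L ^ 3 + 138240 * L ^ 2 + (-71460 / 49) * L + (-8775 / 784)) * M + ((754974720 / 49) * L ^ 5 + (-796262400 / 49) * L ^ 4 + (30689280 / 49) * L ^ 3 + (1002240 / 49) * L ^ 2 + (-55260 / 49) * L + (8775 / 784)) = (0 : ℝ) := by
    linear_combination h0 - ((-1472 / 7) * L + (-87 / 14)) * h4
  have hA : (((2949120 / 49) * L ^ 3 + 138240 * L ^ 2 + (-71460 / 49) * L + (-8775 / 784)) : ℝ) ^ 2 * (M * M * (48 / 7) + ((15360 / 7) * L ^ 2 + (3336 / 7) * L + (-501 / 56)) * M + ((786432 / 7) * L ^ 4 + (-872448 / 7) * L ^ 3 + (69120 / 7) * L ^ 2 + (-1800 / 7) * L + (117 / 56))) = 0 := by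
    linear_combination (((2949120 / 49) * L ^ 3 + 138240 * L ^ 2 + (-71460 / 49) * L + (-8775 / 784)) : ℝ) ^ 2 * h4
  have hg : L * (L - 1) * (L - 1 / 8) * (L - 13 / 256) * (L - 3 / 128) * (L - 5 / 256) *
      (L - 1 / 32) * (L - 1 / 64) ^ 2 = 0 := by
    linear_combination (1 / (-1709960483517235200 / 343) : ℝ) * hA - (1 / (-1709960483517235200 / 343) : ℝ) *
      ((48 / 7) * (((2949120 / 49) * L ^ 3 + 138240 * L ^ 2 + (-71460 / 49) * L + (-8775 / 784)) * M - ((754974720 / 49) * L ^ 5 + (-796262400 / 49) * L ^ 4 + (30689280 / 49) * L ^ 3 + (1002240 / 49) * L ^ 2 + (-55260 / 49) * L + (8775 / 784))) + ((15360 / 7) * L ^ 2 + (3336 / 7) * L + (-501 / 56)) * ((2949120 / 49) * L ^ 3 + 138240 * L ^ 2 + (-71460 / 49) * L + (-8775 / 784))) * hl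
  simp only [mul_eq_zero, pow_eq_zero_iff, ne_eq, OfNat.ofNat_ne_zero, not_false_eq_true,
    sub_eq_zero] at hg
  rcases hg with ((((((h | h) | h) | h) | h) | h) | h) | h
  · subst h; norm_num at hl; right; left; linarith
  · exact Or.inl h
  · subst h; norm_num at hl; right; left; linarith
  · subst h
    norm_num at hl
    have hM : M = 13 / 256 := by linarith
    subst hM; norm_num
  · subst h
    norm_num at hl
    have hM : M = 3 / 128 := by linarith
    subst hM; norm_num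
  · subst h
    norm_num at hl
    have hM : M = 13 / 256 := by linarith
    subst hM; norm_num
  · subst h
    norm_num at hl
    have hM : M = 0 := by linarith
    subst hM; norm_num
  · subst h
    norm_num at h4
    have hM : (M - 1 / 8) * (M - 1 / 64) = 0 := by linear_combination (7 / 48 : ℝ) * h4
    rcases mul_eq_zero.mp hM with h | h <;> rw [sub_eq_zero] at h <;> subst h <;> norm_num

end CfsgLib.Majorana
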