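import Cfsg.Agent.Lib.Majorana.Setup
import Cfsg.Agent.Lib.Majorana.Key
import Cfsg.Agent.Lib.Majorana.Solutions

/-!
Sakuma's theorem for an axis sequence: two axes among `a 0, …, a 6` coincide.
-/

set_option autoImplicit false

namespace CfsgLib.Majorana.AxisSeq

open Cfsg.Axial

variable {V : Type*} [AddCommGroup V] [Module ℝ V] {mul : V →ₗ[ℝ] V →ₗ[ℝ] V}
  {B : LinearMap.BilinForm ℝ V} (hamb : IsMajoranaAmbient mul B) (A : AxisSeq mul B)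

include hamb

theorem S_periodic' (i : ℤ) : A.S (i + 2) = A.S i := by
  rw [← A.S_periodic hamb (i + 2), add_sub_cancel_right]

theorem S_congr {j k : ℤ} (h : (j - k) % 2 = 0) : A.S j = A.S k := by
  have hm : ∀ m : ℤ, A.S (k + 2 * m) = A.S k := by
    intro m
    induction m using Int.induction_on with
    | zero => rw [mul_zero, add_zero]
    | succ n ih => rw [← ih, ← A.S_periodic' hamb (k + 2 * n)]; congr 1; ring
    | pred n ih => rw [← ih, ← A.S_periodic hamb (k + 2 * -(n : ℤ))]; congr 1; ring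
  rw [← hm ((j - k) / 2)]
  congr 1
  omega

theorem S_mul (i : ℤ) :
    mul (A.a i) (A.S i) = (31 / 32 * A.ip 2 i - 1 / 32) • A.a i + (7 / 128 : ℝ) •
      ((4 : ℝ) • A.S i + (1 / 16 : ℝ) • (A.a (i + 2) + A.a (i - 2)) - (4 * A.ip 2 i - 1 / 8) • A.a i) :=
  ((A.facts hamb i 2).2.2 (A.S i) _ _ _ rfl (A.hS i) rfl rfl).1

theorem σ_mul (i : ℤ) :
    mul (A.a i) (A.σ 0) = (31 / 32 * A.ip 1 0 - 1 / 32) • A.a i + (7 / 128 : ℝ) •
      ((4 : ℝ) • A.σ 0 + (1 / 16 : ℝ) • (A.a (i + 1) + A.a (i - 1)) - (4 * A.ip 1 0 - 1 / 8) • A.a i) := by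
  have h := ((A.facts hamb i 1).2.2 (A.σ i) _ _ _ rfl (A.hσ i) rfl rfl).1
  rw [A.σ_const hamb i, A.ip_one hamb i] at h
  exact h

theorem ipσ (i : ℤ) : B (A.a i) (A.σ 0) = 31 / 32 * A.ip 1 0 - 1 / 32 := by
  rw [← A.σ_const hamb i, hσ, map_sub, map_smul, map_add, hamb.2.2.2.1, A.mul_self, A.norm,
    ← A.ip_one hamb i]
  simp only [ip, smul_eq_mul]
  ring

theorem key_at (i : ℤ) :
    mul (A.a i) (A.S (i + 1)) = ((7 / 96) : ℝ) • A.S i
        + ((1 / 6) * A.ip 1 0 + (-19 / 3072) : ℝ) • A.a (i - 1)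
        + ((7 / 6144) : ℝ) • A.a (i - 2)
        + ((-32 / 3) * A.ip 1 0 ^ 2 + (5 / 3) * A.ip 1 0 + (-1 / 24) * A.ip 2 (i + 1)
            + (-127 / 3072) : ℝ) • A.a i
        + ((1 / 6) * A.ip 1 0 + (-19 / 3072) : ℝ) • A.a (i + 1) + ((7 / 6144) : ℝ) • A.a (i + 2)
        + ((32 / 3) * A.ip 1 0 + (-19 / 48) : ℝ) • A.σ 0 ∧
    mul (A.σ 0) (A.σ 0) = ((-7 / 1536) : ℝ) • A.S i + ((7 / 2048) : ℝ) • A.S (i + 1)
        + ((49 / 768) * A.ip 1 0 + (-245 / 196608) : ℝ) • A.a (i - 1)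
        + ((49 / 196608) : ℝ) • A.a (i - 2)
        + ((7 / 6) * A.ip 1 0 ^ 2 + (-7 / 384) * A.ip 1 0 + (7 / 1536) * A.ip 2 (i + 1)
            + (-7 / 98304) : ℝ) • A.a i
        + ((49 / 768) * A.ip 1 0 + (-245 / 196608) : ℝ) • A.a (i + 1)
        + ((49 / 196608) : ℝ) • A.a (i + 2)
        + ((-5 / 12) * A.ip 1 0 + (-13 / 1536) : ℝ) • A.σ 0 ∧
    A.ip 2 (i + 1) = A.ip 2 i := by
  obtain ⟨g2, g5, g6, g7⟩ := (A.facts hamb i 1).2.2 (A.σ 0) _ _ (A.ip 1 0) (A.ip_one hamb i).symm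
    (by rw [← A.σ_const hamb i, hσ]) rfl rfl
  have e1 : i + 1 + 1 = i + 2 := by ring
  have e2 : i + 1 - 1 = i := by ring
  have e3 : i - 1 - 1 = i - 2 := by ring
  have e4 : i - 1 + 1 = i := by ring
  have hS' : A.S (i - 1) = A.S (i + 1) := by
    rw [← A.S_periodic' hamb (i - 1)]; congr 1; ring
  have hN : B (A.a (i - 1)) (A.a (i + 1)) = A.ip 2 (i + 1) := by
    rw [← (A.facts hamb (i + 1) 2).2.1]
    simp only [ip]
    rw [show i + 1 - 2 = i - 1 by ring, show i - 1 + 2 = i + 1 by ring]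
  have hL : B (A.a i) (A.a (i + 1)) = A.ip 1 0 := A.ip_one hamb i
  have hvx : B ((4 : ℝ) • A.σ 0 + (1 / 16 : ℝ) • (A.a (i + 1) + A.a (i - 1))
      - (4 * A.ip 1 0 - 1 / 8) • A.a i) (A.a (i + 1)) =
      4 * (31 / 32 * A.ip 1 0 - 1 / 32) + (1 / 16) * (1 + A.ip 2 (i + 1))
        - (4 * A.ip 1 0 - 1 / 8) * A.ip 1 0 := by
    simp only [LinearMap.BilinForm.sub_left, LinearMap.BilinForm.add_left,
      LinearMap.BilinForm.smul_left, hamb.2.1 (A.σ 0), A.ipσ hamb, hN, hL, A.norm]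
  rw [hvx] at g7
  have hp := A.σ_mul hamb (i + 1)
  rw [e1, e2, add_comm (A.a (i + 2)) (A.a i)] at hp
  have hm := A.σ_mul hamb (i - 1)
  rw [e3, e4] at hm
  exact key mul hamb.1 (A.a i) (A.a (i + 1)) (A.a (i - 1)) (A.a (i + 2)) (A.a (i - 2))
    (A.σ 0) (A.S i) (A.S (i + 1)) _ _ (A.ip 1 0) (A.ip 2 i) (A.ip 2 (i + 1))
    (A.pair i).2.2.1.1.1 rfl rfl (A.mul_self i) (A.mul_self _) (A.mul_self _)
    (A.mul_adj hamb (Or.inl rfl)) (A.mul_adj hamb (Or.inr (by ring)))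
    (A.mul_two hamb (Or.inr (by ring)) rfl)
    (A.mul_two hamb (Or.inl rfl) rfl) (A.mul_two hamb (Or.inr (by ring)) rfl)
    g2 (A.S_mul hamb i) hp hm g5 g6 g7

theorem ip_two (i : ℤ) : A.ip 2 i = A.ip 2 0 := by
  induction i using Int.induction_on with
  | zero => rfl
  | succ k ih => rw [(A.key_at hamb k).2.2, ih]
  | pred k ih => rw [← ih, ← (A.key_at hamb (-k - 1)).2.2, sub_add_cancel]

theorem ipS_self {i k : ℤ} (h : A.S k = A.S i) :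
    B (A.a i) (A.S k) = 31 / 32 * A.ip 2 0 - 1 / 32 := by
  rw [h, hS, map_sub, map_smul, map_add, hamb.2.2.2.1, A.mul_self, A.norm, ← A.ip_two hamb i]
  simp only [ip, smul_eq_mul]
  ring

theorem ipS_odd {i k : ℤ} (h : A.S k = A.S (i + 1)) :
    B (A.a i) (A.S k) = 31 / 32 * A.ip 1 0 - 1 / 32 + (1 / 32) * (A.ip 1 0 + A.ip 2 0)
      - (1 / 16) * A.ip 1 0 := by
  have hS' : A.S (i + 1) = A.S (i - 1) := by
    rw [← A.S_periodic' hamb (i - 1)]; congr 1; ring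
  have hl : B (A.a i) (A.a (i - 1)) = A.ip 1 0 := by
    rw [hamb.2.1, ← A.ip_one hamb (i - 1), ip, sub_add_cancel]
  have hl' : B (A.a i) (A.a (i + 1)) = A.ip 1 0 := A.ip_one hamb i
  have hm : B (A.a (i - 1)) (A.a (i + 1)) = A.ip 2 0 := by
    rw [← A.ip_two hamb (i - 1), ip]; congr 2; ring
  rw [h, hS', hS, show i - 1 + 2 = i + 1 by ring, map_sub, map_smul, map_add, hamb.2.2.2.1,
    A.mul_adj hamb (Or.inr (by ring)), LinearMap.BilinForm.add_left, LinearMap.BilinForm.smul_left,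
    LinearMap.BilinForm.add_left, hamb.2.1 (A.σ 0), A.ipσ hamb, hl, hl', hm]
  simp only [smul_eq_mul]
  ring

/-- The linear recurrence satisfied by the axes. -/
theorem recurrence (i : ℤ) :
    A.a (i - 2) + (256 * A.ip 1 0 - 6) • A.a (i - 1)
      + ((32768 / 7) * A.ip 1 0 ^ 2 - (2304 / 7) * A.ip 1 0 + (128 / 7) * A.ip 2 0 + 33 / 7) • A.a i
      - ((32768 / 7) * A.ip 1 0 ^ 2 - (2304 / 7) * A.ip 1 0 + (128 / 7) * A.ip 2 0 + 33 / 7)
          • A.a (i + 1)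
      - (256 * A.ip 1 0 - 6) • A.a (i + 2) - A.a (i + 3)
      + (32 : ℝ) • A.S (i + 1) - (32 : ℝ) • A.S i = 0 := by
  have h := (A.key_at hamb i).2.1
  have h' := (A.key_at hamb (i + 1)).2.1
  rw [A.ip_two hamb (i + 1)] at h
  rw [A.ip_two hamb (i + 1 + 1), show i + 1 + 1 = i + 2 by ring, show i + 1 - 1 = i by ring,
    show i + 1 - 2 = i - 1 by ring, show i + 1 + 2 = i + 3 by ring, A.S_periodic' hamb i] at h'
  linear_combination (norm := module) (196608 / 49 : ℝ) • h' - (196608 / 49 : ℝ) • h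

omit hamb in
theorem ip_near {d : ℕ} {Λ : ℝ} (h : ∀ i, A.ip d i = Λ) (hs : ∀ u v : V, B u v = B v u) {j k : ℤ}
    (hjk : k = j + d ∨ j = k + d) : B (A.a j) (A.a k) = Λ := by
  rcases hjk with rfl | rfl
  · exact h j
  · rw [hs]; exact h k

/-- The values of `(a i, a (i + k))` for `k = 3, 4, 5, 6`. -/
theorem ip_values (i : ℤ) :
    A.ip 3 i = ((-32768 / 7) * A.ip 1 0 ^ 3 + (36864 / 7) * A.ip 1 0 ^ 2 + (-1920 / 7) * A.ip 1 0 * A.ip 2 0 + (-2169 / 7) * A.ip 1 0 + (-33 / 7) * A.ip 2 0 + (33 / 7) : ℝ) ∧ A.ip 4 i = ((8388608 / 7) * A.ip 1 0 ^ 4 + (-9601024 / 7) * A.ip 1 0 ^ 3 + 65536 * A.ip 1 0 ^ 2 * A.ip 2 0 + 110592 * A.ip 1 0 ^ 2 + (-640 / 7) * A.ip 1 0 * A.ip 2 0 + (-19840 / 7) * A.ip 1 0 + (-128 / 7) * A.ip 2 0 ^ 2 + (-3) * A.ip 2 0 + (156 / 7) : ℝ) ∧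
    A.ip 5 i = ((-13958643712 / 49) * A.ip 1 0 ^ 5 + (16273899520 / 49) * A.ip 1 0 ^ 4 + (-754974720 / 49) * A.ip 1 0 ^ 3 * A.ip 2 0 + (-1633419264 / 49) * A.ip 1 0 ^ 3 + (12582912 / 49) * A.ip 1 0 ^ 2 * A.ip 2 0 + (8683520 / 7) * A.ip 1 0 ^ 2 + (475136 / 49) * A.ip 1 0 * A.ip 2 0 ^ 2 + (259584 / 49) * A.ip 1 0 * A.ip 2 0 + (-137721 / 7) * A.ip 1 0 + (-256 / 49) * A.ip 2 0 ^ 2 + (-5256 / 49) * A.ip 2 0 + (5512 / 49) : ℝ) ∧ A.ip 6 i = ((3298534883328 / 49) * A.ip 1 0 ^ 6 + (-3917010173952 / 49) * A.ip 1 0 ^ 5 + (177167400960 / 49) * A.ip 1 0 ^ 4 * A.ip 2 0 + (469317451776 / 49) * A.ip 1 0 ^ 4 + (-5511315456 / 49) * A.ip 1 0 ^ 3 * A.ip 2 0 + (-22767894528 / 49) * A.ip 1 0 ^ 3 + (-25165824 / 7) * A.ip 1 0 ^ 2 * A.ip 2 0 ^ 2 + (-97910784 / 49) * A.ip 1 0 ^ 2 * A.ip 2 0 + (542429184 / 49) * A.ip 1 0 ^ 2 + (2457600 / 49) * A.ip 1 0 * A.ip 2 0 ^ 2 + (5162880 / 49) * A.ip 1 0 * A.ip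 2 0 + (-904320 / 7) * A.ip 1 0 + (16384 / 49) * A.ip 2 0 ^ 3 + (1152 / 49) * A.ip 2 0 ^ 2 + (-46500 / 49) * A.ip 2 0 + (29013 / 49) : ℝ) := by
  have hs := hamb.2.1
  have h1 : ∀ j, A.ip ((1 : ℕ) : ℤ) j = A.ip 1 0 := fun j => A.ip_one hamb j
  have h2 : ∀ j, A.ip ((2 : ℕ) : ℤ) j = A.ip 2 0 := fun j => A.ip_two hamb j
  have h3 : ∀ j, A.ip ((3 : ℕ) : ℤ) j = ((-32768 / 7) * A.ip 1 0 ^ 3 + (36864 / 7) * A.ip 1 0 ^ 2 + (-1920 / 7) * A.ip 1 0 * A.ip 2 0 + (-2169 / 7) * A.ip 1 0 + (-33 / 7) * A.ip 2 0 + (33 / 7) : ℝ) := by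
    intro j
    have h := congrArg (B (A.a j)) (A.recurrence hamb j)
    simp only [map_add, map_sub, map_smul, map_zero, smul_eq_mul, A.norm,
      A.ip_near h1 hs (j := j) (k := j - 1) (by omega), A.ip_near h1 hs (j := j) (k := j + 1) (by omega),
      A.ip_near h2 hs (j := j) (k := j - 2) (by omega), A.ip_near h2 hs (j := j) (k := j + 2) (by omega),
      A.ipS_self hamb (i := j) (k := j) rfl, A.ipS_odd hamb (i := j) (k := j + 1) rfl] at h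
    show B (A.a j) (A.a (j + 3)) = _
    linear_combination -h
  have h4 : ∀ j, A.ip ((4 : ℕ) : ℤ) j = ((8388608 / 7) * A.ip 1 0 ^ 4 + (-9601024 / 7) * A.ip 1 0 ^ 3 + 65536 * A.ip 1 0 ^ 2 * A.ip 2 0 + 110592 * A.ip 1 0 ^ 2 + (-640 / 7) * A.ip 1 0 * A.ip 2 0 + (-19840 / 7) * A.ip 1 0 + (-128 / 7) * A.ip 2 0 ^ 2 + (-3) * A.ip 2 0 + (156 / 7) : ℝ) := by
    have hgen : ∀ j, B (A.a (j + 2)) (A.a (j - 2)) = ((8388608 / 7) * A.ip 1 0 ^ 4 + (-9601024 / 7) * A.ip 1 0 ^ 3 + 65536 * A.ip 1 0 ^ 2 * A.ip 2 0 + 110592 * A.ip 1 0 ^ 2 + (-640 / 7) * A.ip 1 0 * A.ip 2 0 + (-19840 / 7) * A.ip 1 0 + (-128 / 7) * A.ip 2 0 ^ 2 + (-3) * A.ip 2 0 + (156 / 7) : ℝ) := by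
      intro j
      have h := congrArg (B (A.a (j + 2))) (A.recurrence hamb j)
      simp only [map_add, map_sub, map_smul, map_zero, smul_eq_mul, A.norm,
        A.ip_near h3 hs (j := j + 2) (k := j - 1) (by omega),
        A.ip_near h2 hs (j := j + 2) (k := j) (by omega),
        A.ip_near h1 hs (j := j + 2) (k := j + 1) (by omega),
        A.ip_near h1 hs (j := j + 2) (k := j + 3) (by omega),
        A.ipS_self hamb (i := j + 2) (k := j) (A.S_congr hamb (by omega)),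
        A.ipS_odd hamb (i := j + 2) (k := j + 1) (A.S_congr hamb (by omega))] at h
      linear_combination h
    intro j
    have h := hgen (j + 2)
    rw [hs, show j + 2 - 2 = j by ring, show j + 2 + 2 = j + 4 by ring] at h
    exact h
  have h5 : ∀ j, A.ip ((5 : ℕ) : ℤ) j = ((-13958643712 / 49) * A.ip 1 0 ^ 5 + (16273899520 / 49) * A.ip 1 0 ^ 4 + (-754974720 / 49) * A.ip 1 0 ^ 3 * A.ip 2 0 + (-1633419264 / 49) * A.ip 1 0 ^ 3 + (12582912 / 49) * A.ip 1 0 ^ 2 * A.ip 2 0 + (8683520 / 7) * A.ip 1 0 ^ 2 + (475136 / 49) * A.ip 1 0 * A.ip 2 0 ^ 2 + (259584 / 49) * A.ip 1 0 * A.ip 2 0 + (-137721 / 7) * A.ip 1 0 + (-256 / 49) * A.ip 2 0 ^ 2 + (-5256 / 49) * A.ip 2 0 + (5512 / 49) : ℝ) := by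
    have hgen : ∀ j, B (A.a (j + 3)) (A.a (j - 2)) = ((-13958643712 / 49) * A.ip 1 0 ^ 5 + (16273899520 / 49) * A.ip 1 0 ^ 4 + (-754974720 / 49) * A.ip 1 0 ^ 3 * A.ip 2 0 + (-1633419264 / 49) * A.ip 1 0 ^ 3 + (12582912 / 49) * A.ip 1 0 ^ 2 * A.ip 2 0 + (8683520 / 7) * A.ip 1 0 ^ 2 + (475136 / 49) * A.ip 1 0 * A.ip 2 0 ^ 2 + (259584 / 49) * A.ip 1 0 * A.ip 2 0 + (-137721 / 7) * A.ip 1 0 + (-256 / 49) * A.ip 2 0 ^ 2 + (-5256 / 49) * A.ip 2 0 + (5512 / 49) : ℝ) := by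
      intro j
      have h := congrArg (B (A.a (j + 3))) (A.recurrence hamb j)
      simp only [map_add, map_sub, map_smul, map_zero, smul_eq_mul, A.norm,
        A.ip_near h4 hs (j := j + 3) (k := j - 1) (by omega),
        A.ip_near h3 hs (j := j + 3) (k := j) (by omega),
        A.ip_near h2 hs (j := j + 3) (k := j + 1) (by omega),
        A.ip_near h1 hs (j := j + 3) (k := j + 2) (by omega),
        A.ipS_self hamb (i := j + 3) (k := j + 1) (A.S_congr hamb (by omega)),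
        A.ipS_odd hamb (i := j + 3) (k := j) (A.S_congr hamb (by omega))] at h
      linear_combination h
    intro j
    have h := hgen (j + 2)
    rw [hs, show j + 2 - 2 = j by ring, show j + 2 + 3 = j + 5 by ring] at h
    exact h
  have h6 : ∀ j, A.ip ((6 : ℕ) : ℤ) j = ((3298534883328 / 49) * A.ip 1 0 ^ 6 + (-3917010173952 / 49) * A.ip 1 0 ^ 5 + (177167400960 / 49) * A.ip 1 0 ^ 4 * A.ip 2 0 + (469317451776 / 49) * A.ip 1 0 ^ 4 + (-5511315456 / 49) * A.ip 1 0 ^ 3 * A.ip 2 0 + (-22767894528 / 49) * A.ip 1 0 ^ 3 + (-25165824 / 7) * A.ip 1 0 ^ 2 * A.ip 2 0 ^ 2 + (-97910784 / 49) * A.ip 1 0 ^ 2 * A.ip 2 0 + (542429184 / 49) * A.ip 1 0 ^ 2 + (2457600 / 49) * A.ip 1 0 * A.ip 2 0 ^ 2 + (5162880 / 49) * A.ip 1 0 * A.ip 2 0 + (-904320 / 7) * A.ip 1 0 + (16384 / 49) * A.ip 2 0 ^ 3 + (1152 / 49) * A.ip 2 0 ^ 2 + (-46500 / 49) * A.ip 2 0 + (29013 / 49) : ℝ) := by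
    have hgen : ∀ j, B (A.a (j + 4)) (A.a (j - 2)) = ((3298534883328 / 49) * A.ip 1 0 ^ 6 + (-3917010173952 / 49) * A.ip 1 0 ^ 5 + (177167400960 / 49) * A.ip 1 0 ^ 4 * A.ip 2 0 + (469317451776 / 49) * A.ip 1 0 ^ 4 + (-5511315456 / 49) * A.ip 1 0 ^ 3 * A.ip 2 0 + (-22767894528 / 49) * A.ip 1 0 ^ 3 + (-25165824 / 7) * A.ip 1 0 ^ 2 * A.ip 2 0 ^ 2 + (-97910784 / 49) * A.ip 1 0 ^ 2 * A.ip 2 0 + (542429184 / 49) * A.ip 1 0 ^ 2 + (2457600 / 49) * A.ip 1 0 * A.ip 2 0 ^ 2 + (5162880 / 49) * A.ip 1 0 * A.ip 2 0 + (-904320 / 7) * A.ip 1 0 + (16384 / 49) * A.ip 2 0 ^ 3 + (1152 / 49) * A.ip 2 0 ^ 2 + (-46500 / 49) * A.ip 2 0 + (29013 / 49) : ℝ) := by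
      intro j
      have h := congrArg (B (A.a (j + 4))) (A.recurrence hamb j)
      simp only [map_add, map_sub, map_smul, map_zero, smul_eq_mul, A.norm,
        A.ip_near h5 hs (j := j + 4) (k := j - 1) (by omega),
        A.ip_near h4 hs (j := j + 4) (k := j) (by omega),
        A.ip_near h3 hs (j := j + 4) (k := j + 1) (by omega),
        A.ip_near h2 hs (j := j + 4) (k := j + 2) (by omega),
        A.ip_near h1 hs (j := j + 4) (k := j + 3) (by omega),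
        A.ipS_self hamb (i := j + 4) (k := j) (A.S_congr hamb (by omega)),
        A.ipS_odd hamb (i := j + 4) (k := j + 1) (A.S_congr hamb (by omega))] at h
      linear_combination h
    intro j
    have h := hgen (j + 2)
    rw [hs, show j + 2 - 2 = j by ring, show j + 2 + 4 = j + 6 by ring] at h
    exact h
  exact ⟨h3 i, h4 i, h5 i, h6 i⟩

/-- Sakuma's theorem: one of `a 1, …, a 6` equals `a 0`. -/
theorem exists_period : ∃ n : ℕ, 1 ≤ n ∧ n ≤ 6 ∧ A.a n = A.a 0 := by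
  have hs := hamb.2.1
  have h1 : ∀ j, A.ip ((1 : ℕ) : ℤ) j = A.ip 1 0 := fun j => A.ip_one hamb j
  have h2 : ∀ j, A.ip ((2 : ℕ) : ℤ) j = A.ip 2 0 := fun j => A.ip_two hamb j
  have hv := A.ip_values hamb
  have h3 : ∀ j, A.ip ((3 : ℕ) : ℤ) j = _ := fun j => (hv j).1
  have h4 : ∀ j, A.ip ((4 : ℕ) : ℤ) j = _ := fun j => (hv j).2.1
  have h5 : ∀ j, A.ip ((5 : ℕ) : ℤ) j = _ := fun j => (hv j).2.2.1
  have r0 := A.recurrence hamb 0
  have r2 := A.recurrence hamb 2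
  norm_num only at r0 r2
  rw [A.S_congr hamb (show ((3 : ℤ) - 1) % 2 = 0 by norm_num),
    A.S_congr hamb (show ((2 : ℤ) - 0) % 2 = 0 by norm_num)] at r2
  have k0 := (A.key_at hamb 0).1
  have k3 := (A.key_at hamb 3).1
  have s0 := A.S_mul hamb 0
  have s3 := A.S_mul hamb 3
  norm_num only [A.ip_two hamb] at k0 k3 s0 s3
  rw [A.S_congr hamb (show ((4 : ℤ) - 0) % 2 = 0 by norm_num),
    A.S_congr hamb (show ((3 : ℤ) - 1) % 2 = 0 by norm_num)] at k3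
  rw [A.S_congr hamb (show ((3 : ℤ) - 1) % 2 = 0 by norm_num)] at s3
  have hp := congrArg (mul (A.a 0)) r0
  have hq := congrArg (mul (A.a 3)) r2
  simp only [map_add, map_sub, map_smul, map_zero, A.mul_self, k0, s0,
    A.mul_two hamb (i := 0) (j := -2) (k := 0) (by omega) rfl,
    A.mul_two hamb (i := 0) (j := 2) (k := 0) (by omega) rfl,
    A.mul_adj hamb (i := 0) (j := -1) (by omega),
    A.mul_adj hamb (i := 0) (j := 1) (by omega)] at hp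
  simp only [map_add, map_sub, map_smul, map_zero, A.mul_self, k3, s3, hamb.1 (A.a 3) (A.a 0),
    A.mul_two hamb (i := 3) (j := 1) (k := 1) (by omega) (A.S_congr hamb (by norm_num)),
    A.mul_two hamb (i := 3) (j := 5) (k := 1) (by omega) (A.S_congr hamb (by norm_num)),
    A.mul_adj hamb (i := 3) (j := 2) (by omega),
    A.mul_adj hamb (i := 3) (j := 4) (by omega)] at hq
  have e0 : ((-402653184 / 49) * A.ip 1 0 ^ 5 + (453771264 / 49) * A.ip 1 0 ^ 4 + (-19660800 / 49) * A.ip 1 0 ^ 3 * A.ip 2 0 + (-33103872 / 49) * A.ip 1 0 ^ 3 + (1195008 / 49) * A.ip 1 0 ^ 2 * A.ip 2 0 + (92160 / 7) * A.ip 1 0 ^ 2 + (-70656 / 49) * A.ip 1 0 * A.ip 2 0 ^ 2 + (-124392 / 49) * A.ip 1 0 * A.ip 2 0 + (216 / 7) * A.ip 1 0 + (-2088 / 49) * A.ip 2 0 ^ 2 + (8703 / 196) * A.ip 2 0 + (-351 / 196) : ℝ) = 0 := by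
    have p := congrArg (B (A.a 0)) hp
    have q := congrArg (B (A.a 0)) hq
    simp only [map_add, map_sub, map_smul, map_zero, smul_eq_mul, A.norm, A.ipσ hamb,
      A.ipS_self hamb (i := 0) (k := 0) rfl,
      A.ipS_odd hamb (i := 0) (k := 1) (A.S_congr hamb (by norm_num)),
      A.ip_near h2 hs (j := 0) (k := -2) (by omega),
      A.ip_near h1 hs (j := 0) (k := -1) (by omega),
      A.ip_near h1 hs (j := 0) (k := 1) (by omega),
      A.ip_near h2 hs (j := 0) (k := 2) (by omega),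
      A.ip_near h3 hs (j := 0) (k := 3) (by omega),
      A.ip_near h4 hs (j := 0) (k := 4) (by omega),
      A.ip_near h5 hs (j := 0) (k := 5) (by omega)] at p q
    linear_combination p + q
  have e1 : ((786432 / 7) * A.ip 1 0 ^ 4 + (-872448 / 7) * A.ip 1 0 ^ 3 + (15360 / 7) * A.ip 1 0 ^ 2 * A.ip 2 0 + (69120 / 7) * A.ip 1 0 ^ 2 + (3336 / 7) * A.ip 1 0 * A.ip 2 0 + (-1800 / 7) * A.ip 1 0 + (48 / 7) * A.ip 2 0 ^ 2 + (-501 / 56) * A.ip 2 0 + (117 / 56) : ℝ) = 0 := by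
    have p := congrArg (B (A.a 1)) hp
    have q := congrArg (B (A.a 1)) hq
    simp only [map_add, map_sub, map_smul, map_zero, smul_eq_mul, A.norm, A.ipσ hamb,
      A.ipS_self hamb (i := 1) (k := 1) rfl,
      A.ipS_odd hamb (i := 1) (k := 0) (A.S_congr hamb (by norm_num)),
      A.ip_near h3 hs (j := 1) (k := -2) (by omega),
      A.ip_near h2 hs (j := 1) (k := -1) (by omega),
      A.ip_near h1 hs (j := 1) (k := 0) (by omega),
      A.ip_near h1 hs (j := 1) (k := 2) (by omega),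
      A.ip_near h2 hs (j := 1) (k := 3) (by omega),
      A.ip_near h3 hs (j := 1) (k := 4) (by omega),
      A.ip_near h4 hs (j := 1) (k := 5) (by omega)] at p q
    linear_combination p + q
  have done : ∀ n : ℕ, 1 ≤ n → n ≤ 6 → A.ip n 0 = 1 →
      ∃ n : ℕ, 1 ≤ n ∧ n ≤ 6 ∧ A.a n = A.a 0 := by
    intro n h₁ h₆ hn
    refine ⟨n, h₁, h₆, sub_eq_zero.mp ?_⟩
    by_contra hne
    have hpos := hamb.2.2.1 _ hne
    simp only [ip, zero_add] at hn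
    simp only [map_sub, LinearMap.sub_apply, A.norm, hs (A.a n) (A.a 0), hn] at hpos
    norm_num at hpos
  obtain h | h | h | h | h | h := solutions e1 e0
  · exact done 1 (by norm_num) (by norm_num) h
  · exact done 2 (by norm_num) (by norm_num) h
  · exact done 3 (by norm_num) (by norm_num) ((h3 0).trans h)
  · exact done 4 (by norm_num) (by norm_num) ((h4 0).trans h)
  · exact done 5 (by norm_num) (by norm_num) ((h5 0).trans h)
  · exact done 6 (by norm_num) (by norm_num) (((hv 0).2.2.2).trans h)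

end CfsgLib.Majorana.AxisSeq
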