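import Cfsg.Agent.Lib.Majorana.Axis

/-!
The sequence of axes generated by two Majorana pairs, and the invariants of such a sequence.
-/

set_option autoImplicit false

namespace CfsgLib.Majorana

open Cfsg.Axial

variable {V : Type*} [AddCommGroup V] [Module ℝ V]

/-- A bi-infinite sequence of axes, each acting on the others by reflection of the index. -/
structure AxisSeq (mul : V →ₗ[ℝ] V →ₗ[ℝ] V) (B : LinearMap.BilinForm ℝ V) where
  a : ℤ → V
  τ : ℤ → V ≃ₗ[ℝ] V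
  pair : ∀ i, IsMajoranaPair mul B (τ i) (a i)
  norm : ∀ i, B (a i) (a i) = 1
  refl : ∀ i j, τ i (a j) = a (2 * i - j)

variable {mul : V →ₗ[ℝ] V →ₗ[ℝ] V} {B : LinearMap.BilinForm ℝ V}

namespace AxisSeq

/-- The automorphisms of `(V, mul, B)`. -/
def autGroup (mul : V →ₗ[ℝ] V →ₗ[ℝ] V) (B : LinearMap.BilinForm ℝ V) : Subgroup (V ≃ₗ[ℝ] V) where
  carrier := {g | (∀ u v, g (mul u v) = mul (g u) (g v)) ∧ ∀ u v, B (g u) (g v) = B u v}
  mul_mem' := by
    rintro g h ⟨hg, hg'⟩ ⟨hh, hh'⟩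
    refine ⟨fun u v => ?_, fun u v => ?_⟩
    · show g (h (mul u v)) = mul (g (h u)) (g (h v))
      rw [hh, hg]
    · show B (g (h u)) (g (h v)) = B u v
      rw [hg', hh']
  one_mem' := ⟨fun _ _ => rfl, fun _ _ => rfl⟩
  inv_mem' := by
    rintro g ⟨hg, hg'⟩
    refine ⟨fun u v => ?_, fun u v => ?_⟩
    · show g.symm (mul u v) = mul (g.symm u) (g.symm v)
      apply g.injective
      simp only [hg, g.apply_symm_apply]
    · show B (g.symm u) (g.symm v) = B u v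
      rw [← hg', g.apply_symm_apply, g.apply_symm_apply]

variable (hamb : IsMajoranaAmbient mul B) (A : AxisSeq mul B)

/-- `σ i = a_i a_{i+1} - (a_i + a_{i+1})/32`. -/
noncomputable def σ (i : ℤ) : V := mul (A.a i) (A.a (i + 1)) - (1 / 32 : ℝ) • (A.a i + A.a (i + 1))

/-- `S i = a_i a_{i+2} - (a_i + a_{i+2})/32`. -/
noncomputable def S (i : ℤ) : V := mul (A.a i) (A.a (i + 2)) - (1 / 32 : ℝ) • (A.a i + A.a (i + 2))

/-- `ip k i = (a_i, a_{i+k})`. -/
def ip (k i : ℤ) : ℝ := B (A.a i) (A.a (i + k))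

theorem hσ (i : ℤ) : A.σ i = mul (A.a i) (A.a (i + 1)) - (1 / 32 : ℝ) • (A.a i + A.a (i + 1)) := rfl

theorem hS (i : ℤ) : A.S i = mul (A.a i) (A.a (i + 2)) - (1 / 32 : ℝ) • (A.a i + A.a (i + 2)) := rfl

include hamb

theorem facts (i d : ℤ) :
    (mul (A.a i) (A.a (i - d)) = mul (A.a i) (A.a (i + d)) +
      (1 / 32 : ℝ) • (A.a (i - d) - A.a (i + d))) ∧ A.ip d (i - d) = A.ip d i ∧
    ∀ σ v u : V, ∀ l : ℝ, l = A.ip d i →
      σ = mul (A.a i) (A.a (i + d)) - (1 / 32 : ℝ) • (A.a i + A.a (i + d)) →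
      v = (4 : ℝ) • σ + (1 / 16 : ℝ) • (A.a (i + d) + A.a (i - d)) - (4 * l - 1 / 8) • A.a i →
      u = (1 / 2 : ℝ) • (A.a (i + d) + A.a (i - d)) - l • A.a i - v →
      mul (A.a i) σ = (31 / 32 * l - 1 / 32) • A.a i + (7 / 128 : ℝ) • v ∧
      mul (A.a i) (mul u u) = 0 ∧
      mul (A.a i) (mul u v) = (1 / 4 : ℝ) • mul u v ∧
      mul (A.a i) (mul v v) = ((1 / 4) * B v (A.a (i + d))) • A.a i := by
  have hr : A.τ i (A.a (i + d)) = A.a (i - d) := by rw [A.refl]; congr 1; ring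
  have hsym : ∀ u v : V, B u v = B v u := hamb.2.1
  obtain ⟨f1, -, -, f4, -⟩ := axis_facts hamb (A.pair i) (A.norm i) (A.a (i + d)) _ _ _ _ rfl rfl rfl rfl
  rw [hr] at f1 f4
  refine ⟨?_, ?_, ?_⟩
  · rw [f1]; module
  · show B (A.a (i - d)) (A.a (i - d + d)) = _
    rw [sub_add_cancel, hsym, f4]
    rfl
  · intro σ v u l hl hσ hv hu
    obtain ⟨-, g2, -, -, g5, g6, g7⟩ := axis_facts hamb (A.pair i) (A.norm i) (A.a (i + d)) σ v u l
      hl hσ (by rw [hr]; exact hv) (by rw [hr]; exact hu)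
    exact ⟨g2, g5, g6, g7⟩

theorem σ_const (i : ℤ) : A.σ i = A.σ 0 := by
  have step : ∀ j, A.σ (j - 1) = A.σ j := by
    intro j
    obtain ⟨f1, -, -⟩ := A.facts hamb j 1
    rw [hσ, hσ, sub_add_cancel, hamb.1 (A.a (j - 1)) (A.a j), f1]
    module
  induction i using Int.induction_on with
  | zero => rfl
  | succ k ih => rw [← step (k + 1), add_sub_cancel_right, ih]
  | pred k ih => rw [step (-k), ih]

theorem ip_one (i : ℤ) : A.ip 1 i = A.ip 1 0 := by
  have step : ∀ j, A.ip 1 (j - 1) = A.ip 1 j := fun j => (A.facts hamb j 1).2.1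
  induction i using Int.induction_on with
  | zero => rfl
  | succ k ih => rw [← step (k + 1), add_sub_cancel_right, ih]
  | pred k ih => rw [step (-k), ih]

theorem S_periodic (i : ℤ) : A.S (i - 2) = A.S i := by
  obtain ⟨f1, -, -⟩ := A.facts hamb i 2
  rw [hS, hS, sub_add_cancel, hamb.1 (A.a (i - 2)) (A.a i), f1]
  module

omit hamb in
theorem mul_self (i : ℤ) : mul (A.a i) (A.a i) = A.a i := (A.pair i).2.2.1.1.2.1

theorem mul_adj {i j : ℤ} (h : j = i + 1 ∨ i = j + 1) :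
    mul (A.a i) (A.a j) = A.σ 0 + (1 / 32 : ℝ) • (A.a i + A.a j) := by
  rcases h with rfl | rfl
  · rw [← A.σ_const hamb i, hσ]; module
  · rw [← A.σ_const hamb j, hσ, hamb.1 (A.a (j + 1))]; module

theorem mul_two {i j k : ℤ} (h : j = i + 2 ∨ i = j + 2) (hk : A.S i = A.S k) :
    mul (A.a i) (A.a j) = A.S k + (1 / 32 : ℝ) • (A.a i + A.a j) := by
  rcases h with rfl | rfl
  · rw [← hk, hS]; module
  · rw [← hk, ← A.S_periodic hamb (j + 2), add_sub_cancel_right, hS, hamb.1 (A.a (j + 2))]; module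

end AxisSeq

end CfsgLib.Majorana
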